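import Mathlib
import Cfsg.Agent.Lib.Helper43.GF.Main
import Cfsg.Agent.Lib.Helper5.OMFField2

/-!
# S2715 (field automorphisms of prime order of `PΩ⁺_{2m}`): base change for the plus form

helper40's lemma server "OPF": definitions.
-/

set_option autoImplicit false
set_option linter.unusedSectionVars false
set_option linter.unusedVariables false

namespace Cfsg.Agent.Helper40.OPF

open Matrix QuadraticMap Cfsg.Agent.Helper5.OrthAut Cfsg.Agent.Helper40.AutPOm
  Cfsg.Agent.Helper40.OrthEven Cfsg.Agent.Helper43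

variable {F₀ : Type*} [Field F₀] {F : Type*} [Field F]

/-- base change of the plus form -/
theorem isBC_stdPlus (m : ℕ) (emb : F₀ →+* F) : IsBC emb ⇑(stdPlus F₀ m) ⇑(stdPlus F m) := by
  intro v
  rw [stdPlus_apply, stdPlus_apply]
  unfold Cfsg.quadFormPlus
  rw [map_sum]
  apply Finset.sum_congr rfl
  intro i _
  rw [map_mul]
  rfl

/-- the map `GO(Q₀) → Aut(PΩ(Q))`, `g₀ ↦` the automorphism induced by `g₀ ⊗ F` -/
noncomputable def ThetaP (m : ℕ) (emb : F₀ →+* F) :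
    ↥(GO (stdPlus F₀ m)) →* MulAut (Cfsg.POmega F ⇑(stdPlus F m)) :=
  (PhiGO ⇑(stdPlus F m)).comp (Cfsg.Agent.Helper5.OMF.embGO' (isBC_stdPlus m emb))

theorem ThetaP_apply (m : ℕ) (emb : F₀ →+* F) (g : ↥(GO (stdPlus F₀ m))) :
    ThetaP m emb g = PhiGO ⇑(stdPlus F m) (Cfsg.Agent.Helper5.OMF.embGO' (isBC_stdPlus m emb) g) :=
  rfl

theorem ThetaP_val (m : ℕ) (emb : F₀ →+* F) (g : ↥(GO (stdPlus F₀ m))) :
    ((Cfsg.Agent.Helper5.OMF.embGO' (isBC_stdPlus m emb) g : ↥(GO (stdPlus F m))) :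
      GL (Fin m ⊕ Fin m) F) = Matrix.GeneralLinearGroup.map emb g.1 :=
  Cfsg.Agent.Helper5.OMF.embGO'_val _ g

end Cfsg.Agent.Helper40.OPF
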