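import Mathlib
import Cfsg.Agent.Lib.Helper40.OPF.Defs
import Cfsg.Agent.Lib.Helper5.OPFPE
import Cfsg.Agent.Lib.Helper79.OPFODD
import Cfsg.Agent.Lib.Helper40.OPFTOR
import Cfsg.Agent.Lib.Helper40.OPFCEN
import Cfsg.Agent.Lib.Helper40.OPFSO
import Cfsg.Agent.Lib.Helper40.OPFSQ

/-!
# S2715: field automorphisms of prime order of `PΩ⁺_{2m}(F)`: the assembly
-/

set_option autoImplicit false
set_option linter.unusedSectionVars false
set_option linter.unusedVariables false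

namespace Cfsg.Agent.Helper40.OPF

open Matrix QuadraticMap Cfsg.Agent.Helper5.OrthAut Cfsg.Agent.Helper40.AutPOm
  Cfsg.Agent.Helper40.OrthEven Cfsg.Agent.Helper43 Cfsg.Agent.Helper40.FixK

section Aux

variable {F : Type*} [Field F] [Fintype F]

/-- the standing data of the plus form -/
theorem exists_classChar_plus {m : ℕ} (hm : 3 ≤ m) : Nonempty (ClassChar (stdPlus F m)) := by
  classical
  have hnd := stdPlus_nondegenerate F m
  have hcardI : Fintype.card (Fin m ⊕ Fin m) = 2 * m := by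
    simp; ring
  have hex : ∃ U₀ : Submodule F ((Fin m ⊕ Fin m) → F), IsTSLag (stdPlus F m) U₀ := by
    refine ⟨lagPlus F m, isLag_lagPlus F m, ?_⟩
    intro v hv
    rw [stdPlus_apply]
    unfold Cfsg.quadFormPlus
    apply Finset.sum_eq_zero
    intro i _
    rw [(mem_lagPlus F m v).1 hv i, mul_zero]
  obtain ⟨χ, hχ1, hχ2, hχ3⟩ := Cfsg.Agent.Helper40.OEV.A3.exists_classChar
    (stdPlus F m) hnd hex (Or.inr (by rw [hcardI]; omega))
  exact ⟨⟨χ, hχ1, hχ2, hχ3⟩⟩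

/-- elements of `PΓO` normalize the image of the class-preserving similarities -/
theorem inD_conj_gamma {m : ℕ} (hQA : ∀ σ : F ≃+* F, σ ∈ QAut (⇑(stdPlus F m)))
    (C : ClassChar (stdPlus F m)) (g : ↥(GO (stdPlus F m))) (τ : F ≃+* F)
    (h : MulAut (Cfsg.POmega F ⇑(stdPlus F m))) (hh : h ∈ inD (stdPlus F m) C) :
    (PhiGO (⇑(stdPlus F m)) g * fieldAutStd (⇑(stdPlus F m)) hQA τ) * h *
      (PhiGO (⇑(stdPlus F m)) g * fieldAutStd (⇑(stdPlus F m)) hQA τ)⁻¹ ∈ inD (stdPlus F m) C := by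
  obtain ⟨k, hχ, rfl⟩ := (mem_inD_iff (stdPlus F m) C h).1 hh
  rw [mem_inD_iff]
  refine ⟨g * sigmaGO (⇑(stdPlus F m)) (toQAut (⇑(stdPlus F m)) hQA τ) k * g⁻¹, ?_, ?_⟩
  · rw [map_mul, map_mul, C.sigma hQA, hχ, mul_one, map_inv, mul_inv_cancel]
  · rw [map_mul, map_mul, ← fieldAutStd_conj_PhiGO, map_inv, _root_.mul_inv_rev]
    simp only [mul_assoc]

/-- a power of a nonzero element is a square unless the exponent is odd and the element a
non-square -/
theorem isSquare_pow_iff' {K : Type*} [Field K] (μ : K) (hμ : μ ≠ 0) (n : ℕ) :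
    IsSquare (μ ^ n) ↔ ¬ (Odd n ∧ ¬ IsSquare μ) := by
  constructor
  · rintro ⟨c, hc⟩ ⟨⟨k, rfl⟩, hns⟩
    apply hns
    refine ⟨c / μ ^ k, ?_⟩
    have hk : μ ^ k ≠ 0 := pow_ne_zero _ hμ
    field_simp
    linear_combination hc
  · intro h
    rcases Nat.even_or_odd n with ⟨k, rfl⟩ | hodd
    · exact ⟨μ ^ k, by rw [pow_add]⟩
    · have : IsSquare μ := by
        by_contra hns
        exact h ⟨hodd, hns⟩
      exact this.pow n

theorem deltaPlus_map {F₀ : Type*} [Field F₀] (m : ℕ) (emb : F₀ →+* F) (ν : F₀ˣ) :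
    ((deltaPlus m ν : GL (Fin m ⊕ Fin m) F₀) : Matrix (Fin m ⊕ Fin m) (Fin m ⊕ Fin m) F₀).map emb =
      ((deltaPlus m (Units.map (emb : F₀ →* F) ν) : GL (Fin m ⊕ Fin m) F) :
        Matrix (Fin m ⊕ Fin m) (Fin m ⊕ Fin m) F) := by
  rw [deltaPlus, deltaPlus, diagGL_coe, diagGL_coe, Matrix.diagonal_map (map_zero emb)]
  congr 1
  funext i
  rcases i with i | i
  · rfl
  · simp

end Aux

section Main

variable {F : Type*} [Field F] [Fintype F]

local notation "Ip" m => (Fin m ⊕ Fin m)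

set_option maxHeartbeats 1600000 in
/-- S2715 under the hypothesis that `x` is `PΓO`-conjugate to a standard field automorphism -/
theorem opf_main {p f : ℕ} [Fact p.Prime] (hF : Fintype.card F = p ^ f) (hf : 1 ≤ f) {m : ℕ}
    (hm : 4 ≤ m) (x : MulAut (Cfsg.POmega F (Cfsg.quadFormPlus m F)))
    (hconj : ∃ (γ φ : MulAut (Cfsg.POmega F (Cfsg.quadFormPlus m F))) (σ : F ≃+* F),
      γ ∈ Cfsg.gammaPOmega F (Cfsg.quadFormPlus m F) ∧ σ ≠ RingEquiv.refl F ∧
      Cfsg.IsFieldAutPOmegaOf (Cfsg.quadFormPlus m F) σ φ ∧ γ * x * γ⁻¹ = φ)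
    {r : ℕ} (hr : r.Prime) (hxr : orderOf x = r)
    (F₀ : Type*) [Field F₀] [Fintype F₀] (hF₀ : Fintype.card F₀ = p ^ (f / r)) :
    r ∣ f ∧
    Nonempty (↥(Cfsg.inndiagPOmegaPlus m F ⊓ Subgroup.centralizer {x}) ≃*
      ↥(Cfsg.inndiagPOmegaPlus m F₀)) ∧
    ((Odd r ∨ p = 2) → Cfsg.splitClassCount (Cfsg.inndiagPOmegaPlus m F)
      (Cfsg.Inn (Cfsg.POmega F (Cfsg.quadFormPlus m F))) x = 1) ∧
    ((r = 2 ∧ p ≠ 2 ∧ Odd m ∧ p ^ (f / 2) % 4 = 1) →
      Cfsg.splitClassCount (Cfsg.inndiagPOmegaPlus m F)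
        (Cfsg.Inn (Cfsg.POmega F (Cfsg.quadFormPlus m F))) x = 2) ∧
    ((r = 2 ∧ p ≠ 2 ∧ ¬ (Odd m ∧ p ^ (f / 2) % 4 = 1)) →
      Cfsg.splitClassCount (Cfsg.inndiagPOmegaPlus m F)
        (Cfsg.Inn (Cfsg.POmega F (Cfsg.quadFormPlus m F))) x = 4) := by
  classical
  have hp : p.Prime := Fact.out
  change MulAut (Cfsg.POmega F ⇑(stdPlus F m)) at x
  -- the standing facts over `F`
  have hfam := stdPlus_isHypFamily F m
  have hnd := stdPlus_nondegenerate F m
  have hcardI : Fintype.card (Ip m) = 2 * m := by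
    simp; ring
  have hperf := hperf_of_hyp (stdPlus F m) hnd _ _ hfam (by omega) (by rw [hcardI]; omega)
  have hcent := hcent_of_hyp (stdPlus F m) hfam (by omega)
    (Cfsg.Agent.Lead.POmegaCard.hspan_plus m)
  obtain ⟨C⟩ := exists_classChar_plus (F := F) (m := m) (by omega)
  have hQA : ∀ σ : F ≃+* F, σ ∈ QAut (⇑(stdPlus F m)) := qaut_plus m
  have D : RigData (stdPlus F m) := rigData_plus (by omega)
  have hinD : Cfsg.inndiagPOmegaPlus m F = inD (stdPlus F m) C :=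
    autSubgroupOf_eq_inD (stdPlus F m) C
  -- the standing facts over `F₀`
  have hfam₀ := stdPlus_isHypFamily F₀ m
  have hnd₀ := stdPlus_nondegenerate F₀ m
  have hperf₀ := hperf_of_hyp (stdPlus F₀ m) hnd₀ _ _ hfam₀ (by omega) (by rw [hcardI]; omega)
  have hcent₀ := hcent_of_hyp (stdPlus F₀ m) hfam₀ (by omega)
    (Cfsg.Agent.Lead.POmegaCard.hspan_plus m)
  obtain ⟨C₀⟩ := exists_classChar_plus (F := F₀) (m := m) (by omega)
  have hinD₀ : Cfsg.inndiagPOmegaPlus m F₀ = inD (stdPlus F₀ m) C₀ :=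
    autSubgroupOf_eq_inD (stdPlus F₀ m) C₀
  -- the normal form
  have hconj' : ∃ (γ φ : MulAut (Cfsg.POmega F ⇑(stdPlus F m))) (σ : F ≃+* F),
      γ ∈ Cfsg.gammaPOmega F ⇑(stdPlus F m) ∧ σ ≠ RingEquiv.refl F ∧
      Cfsg.IsFieldAutPOmegaOf (⇑(stdPlus F m)) σ φ ∧ γ * x * γ⁻¹ = φ := hconj
  obtain ⟨γ, φ, σ, hγ, hσ1, hstd, hγx⟩ := hconj'
  rw [gammaPOmega_eq_gammaSub (⇑(stdPlus F m)) hQA] at hγ
  obtain ⟨g, τ, hγeq⟩ := hγ
  rw [isFieldAutOf_iff_std (⇑(stdPlus F m)) hQA] at hstd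
  subst hstd
  have hγx' : γ * x * γ⁻¹ = fieldAutStd (⇑(stdPlus F m)) hQA σ := hγx
  have hσr : orderOf σ = r := by
    rw [← orderOf_fieldAutStd hQA D σ, ← hγx', ← hxr]
    exact orderOf_injective (MulAut.conj γ).toMonoidHom (MulAut.conj γ).injective x
  have hr0 : 0 < r := hr.pos
  obtain ⟨hrf, hK⟩ := card_fixK σ hp hF hσr hr0
  have : Fintype (fixK σ) := Fintype.ofFinite _
  have hcardK : Fintype.card F₀ = Fintype.card (fixK σ) := by
    rw [hF₀, ← hK, Nat.card_eq_fintype_card]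
  have e4 : F₀ ≃+* (fixK σ) := FiniteField.ringEquivOfCardEq hcardK
  let emb : F₀ →+* F := (fixK σ).subtype.comp (e4 : F₀ →+* ↥(fixK σ))
  have hι1 : ∀ y, σ (emb y) = emb y := fun y => (e4 y).2
  have hι2 : ∀ a, σ a = a → ∃ y, emb y = a := by
    intro a ha
    refine ⟨e4.symm ⟨a, ha⟩, ?_⟩
    show ((e4 (e4.symm ⟨a, ha⟩) : ↥(fixK σ)) : F) = a
    rw [RingEquiv.apply_symm_apply]
  -- `γ` normalizes `inD` and `Inn`
  have hDγ : ∀ h, h ∈ inD (stdPlus F m) C ↔ γ * h * γ⁻¹ ∈ inD (stdPlus F m) C := by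
    intro h
    constructor
    · intro hh
      rw [hγeq]
      exact inD_conj_gamma hQA C g τ h hh
    · intro hh
      have hγinv : γ⁻¹ ∈ gammaSub (⇑(stdPlus F m)) hQA :=
        Subgroup.inv_mem _ ⟨g, τ, hγeq⟩
      obtain ⟨g', τ', hγ'⟩ := hγinv
      have := inD_conj_gamma hQA C g' τ' _ hh
      rw [← hγ', inv_inv] at this
      have h2' : γ⁻¹ * (γ * h * γ⁻¹) * γ = h := by group
      rw [h2'] at this
      exact this
  have hInn : ∀ a k', k' ∈ Cfsg.Inn (Cfsg.POmega F ⇑(stdPlus F m)) →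
      a * k' * a⁻¹ ∈ Cfsg.Inn (Cfsg.POmega F ⇑(stdPlus F m)) :=
    fun a k' hk' => Cfsg.Agent.Helper40.AutPSp.inn_conj_mem_gen a k' hk'
  have hcount : Cfsg.splitClassCount (inD (stdPlus F m) C)
      (Cfsg.Inn (Cfsg.POmega F ⇑(stdPlus F m))) (fieldAutStd (⇑(stdPlus F m)) hQA σ) =
      Cfsg.splitClassCount (inD (stdPlus F m) C)
      (Cfsg.Inn (Cfsg.POmega F ⇑(stdPlus F m))) x := by
    rw [← hγx']
    apply Cfsg.Agent.Helper40.SplitCount.splitClassCount_conj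
    · exact hDγ
    · intro k'
      constructor
      · intro hk'
        exact hInn γ k' hk'
      · intro hk'
        have := hInn γ⁻¹ _ hk'
        rw [inv_inv] at this
        have h2' : γ⁻¹ * (γ * k' * γ⁻¹) * γ = k' := by group
        rw [h2'] at this
        exact this
  suffices key : r ∣ f ∧
      Nonempty (↥(inD (stdPlus F m) C ⊓ Subgroup.centralizer {x}) ≃* ↥(inD (stdPlus F₀ m) C₀)) ∧
      ((Odd r ∨ p = 2) → Cfsg.splitClassCount (inD (stdPlus F m) C)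
        (Cfsg.Inn (Cfsg.POmega F ⇑(stdPlus F m))) x = 1) ∧
      ((r = 2 ∧ p ≠ 2 ∧ Odd m ∧ p ^ (f / 2) % 4 = 1) →
        Cfsg.splitClassCount (inD (stdPlus F m) C)
          (Cfsg.Inn (Cfsg.POmega F ⇑(stdPlus F m))) x = 2) ∧
      ((r = 2 ∧ p ≠ 2 ∧ ¬ (Odd m ∧ p ^ (f / 2) % 4 = 1)) →
        Cfsg.splitClassCount (inD (stdPlus F m) C)
          (Cfsg.Inn (Cfsg.POmega F ⇑(stdPlus F m))) x = 4) by
    rw [hinD, hinD₀]
    exact key
  -- the case `r = 2`, `p` odd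
  have key2 : r = 2 → p ≠ 2 →
      ((Odd m ∧ p ^ (f / 2) % 4 = 1) → Cfsg.splitClassCount (inD (stdPlus F m) C)
        (Cfsg.Inn (Cfsg.POmega F ⇑(stdPlus F m))) x = 2) ∧
      (¬ (Odd m ∧ p ^ (f / 2) % 4 = 1) → Cfsg.splitClassCount (inD (stdPlus F m) C)
        (Cfsg.Inn (Cfsg.POmega F ⇑(stdPlus F m))) x = 4) := by
    intro hr2 hp2
    subst hr2
    have h2 : (2 : F) ≠ 0 :=
      Cfsg.Agent.Helper43.two_ne_zero_of_odd_card hF ((hp.odd_of_ne_two hp2).pow)
    have h2₀ : (2 : F₀) ≠ 0 := two_ne_zero_of_emb emb h2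
    have hcard : Fintype.card F = Fintype.card F₀ ^ 2 := by
      obtain ⟨j, hj⟩ := hrf
      rw [hF, hF₀, ← pow_mul, hj]
      congr 1
      omega
    have hchar₀ : ringChar F₀ ≠ 2 := by
      intro h
      apply h2₀
      have := CharP.cast_eq_zero F₀ (ringChar F₀)
      rw [h] at this
      exact_mod_cast this
    have hq₀ : Fintype.card F₀ % 2 = 1 := FiniteField.odd_card_of_char_ne_two hchar₀
    have hq4 : Fintype.card F % 4 = 1 := by
      rw [hcard, Nat.pow_mod]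
      have h3 : Fintype.card F₀ % 4 = 1 ∨ Fintype.card F₀ % 4 = 3 := by omega
      rcases h3 with h3 | h3 <;> rw [h3]
    have hoddF : Odd (Fintype.card F) := by
      rw [Nat.odd_iff]; omega
    have hsq : ∀ a : F₀, IsSquare (emb a) := fun a =>
      isSquare_of_fixed_of_order_two h2 σ hσr hp hF (emb a) (hι1 a)
    have hQ0' : ∃ v : (Ip m) → F, stdPlus F m v ≠ 0 :=
      Cfsg.Agent.Helper23.GF.gfc_exists_ne_zero (F := F) (m := m) (by omega)
    have hQ0₀ : ∃ v : (Ip m) → F₀, stdPlus F₀ m v ≠ 0 :=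
      Cfsg.Agent.Helper23.GF.gfc_exists_ne_zero (F := F₀) (m := m) (by omega)
    -- index four
    have hidx : ((Cfsg.Inn (Cfsg.POmega F ⇑(stdPlus F m))).subgroupOf
        (inD (stdPlus F m) C)).index = 4 := by
      have h5 : (Cfsg.Inn (Cfsg.POmega F (Cfsg.quadFormPlus m F))).relIndex
          (Cfsg.inndiagPOmegaPlus m F) = 4 := by
        have h := Cfsg.Agent.S2725.result hoddF hm
        unfold Subgroup.relIndex
        rcases Nat.even_or_odd m with hev | hod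
        · obtain ⟨φ, hφs, hφk⟩ := h.2.2 hev
          rw [← hφk, Subgroup.index_ker, MonoidHom.range_eq_top.2 hφs, Subgroup.card_top,
            Nat.card_eq_fintype_card]
          rfl
        · obtain ⟨φ, hφs, hφk⟩ := h.2.1 ⟨hod, hq4⟩
          rw [← hφk, Subgroup.index_ker, MonoidHom.range_eq_top.2 hφs, Subgroup.card_top,
            Nat.card_eq_fintype_card]
          rfl
      rw [hinD] at h5
      exact h5
    have hKH : Cfsg.Inn (Cfsg.POmega F ⇑(stdPlus F m)) ≤ inD (stdPlus F m) C := by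
      rw [← hinD, inndiag_eq_inD_plus m h2 hQ0']
      exact inn_le_inD (stdPlus F m) hQ0' m
    have hnorm : ∀ h ∈ inD (stdPlus F m) C,
        ∀ k' ∈ Cfsg.Inn (Cfsg.POmega F ⇑(stdPlus F m)),
        h * k' * h⁻¹ ∈ Cfsg.Inn (Cfsg.POmega F ⇑(stdPlus F m)) :=
      fun h _ k' hk' => hInn h k' hk'
    -- the arithmetic data
    obtain ⟨a₀, b₀, hab⟩ := Cfsg.Agent.Helper44.QF.exists_aniso F₀
    obtain ⟨θ, θ', μ, u, v, lam, hθ1, hθ2, hθ3, huv, hlamns, hμ, hζ, hμsq⟩ :=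
      Cfsg.Agent.Helper43.GF.Pieces.gf_arith emb hcard h2 a₀ b₀ hab
    have hlam0 : lam ≠ 0 := by
      rintro rfl
      exact hlamns ⟨0, by simp⟩
    have hel0 : emb lam ≠ 0 := by
      rw [Ne, map_eq_zero_iff emb emb.injective]; exact hlam0
    have hμ0 : μ ≠ 0 := by
      rintro rfl
      rw [zero_pow (by norm_num)] at hμ
      exact hel0 hμ.symm
    set ν₀ : F₀ˣ := Units.mk0 lam hlam0 with hν₀
    set G₁ : ↥(GO (stdPlus F₀ m)) := ⟨deltaPlus m ν₀, deltaPlus_mem m ν₀⟩ with hG₁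
    have hmultG₁ : mult (stdPlus F₀ m) G₁ = ν₀ :=
      mult_unique _ hQ0₀ _ _ (deltaPlus_sim m ν₀)
    have hχG₁ : C₀.χ G₁ = 1 := by
      rw [C₀.pres]
      show Cfsg.PreservesSingularClasses (Cfsg.quadFormPlus m F₀)
        ((deltaPlus m ν₀ : GL (Ip m) F₀) : Matrix (Ip m) (Ip m) F₀)
      rw [preserves_iff_dHom_plus m h2₀ hQ0₀ _ (deltaPlus_mem m ν₀)]
      apply Units.ext
      rw [dHom_coe, hmultG₁, Units.val_one]
      show ((deltaPlus m ν₀ : GL (Ip m) F₀) : Matrix (Ip m) (Ip m) F₀).det * _ = 1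
      rw [deltaPlus_det]
      exact mul_inv_cancel₀ (pow_ne_zero _ (Units.ne_zero _))
    have hmap := cent_inD_eq_map (by omega : 3 ≤ m) emb σ hr0 hσr hι1 hι2 hQA hperf hcent C C₀
    have hc₁ : ThetaP m emb G₁ ∈ inD (stdPlus F m) C ⊓
        Subgroup.centralizer {fieldAutStd (⇑(stdPlus F m)) hQA σ} := by
      rw [hmap]
      exact ⟨G₁, MonoidHom.mem_ker.2 hχG₁, rfl⟩
    -- generation modulo inner automorphisms
    have hgen : ∀ c ∈ inD (stdPlus F m) C ⊓
        Subgroup.centralizer {fieldAutStd (⇑(stdPlus F m)) hQA σ},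
        c ∈ Cfsg.Inn (Cfsg.POmega F ⇑(stdPlus F m)) ∨
        c * (ThetaP m emb G₁)⁻¹ ∈ Cfsg.Inn (Cfsg.POmega F ⇑(stdPlus F m)) := by
      intro c hc
      rw [hmap] at hc
      obtain ⟨g', hg', rfl⟩ := hc
      have hχg' : C₀.χ g' = 1 := MonoidHom.mem_ker.1 hg'
      by_cases hs : IsSquare ((mult (stdPlus F₀ m) g' : F₀ˣ) : F₀)
      · left
        exact ThetaP_mem_inn_of_sq emb hsq h2 (by omega) hperf hcent g' ((C₀.pres g').1 hχg') hs
      · right
        have h1 : ThetaP m emb g' * (ThetaP m emb G₁)⁻¹ = ThetaP m emb (g' * G₁⁻¹) := by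
          rw [map_mul, map_inv]
        rw [h1]
        apply ThetaP_mem_inn_of_sq emb hsq h2 (by omega) hperf hcent
        · rw [← C₀.pres, map_mul, map_inv, hχg', hχG₁, inv_one, mul_one]
        · have hm2 : mult (stdPlus F₀ m) (g' * G₁⁻¹) =
              mult (stdPlus F₀ m) g' * (mult (stdPlus F₀ m) G₁)⁻¹ := by
            have := map_mul (multHom (stdPlus F₀ m) hQ0₀) g' G₁⁻¹
            rw [map_inv] at this
            exact this
          rw [hm2, hmultG₁, Units.val_mul, Units.val_inv_eq_inv_val, hν₀, Units.val_mk0]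
          exact Cfsg.Agent.Helper43.GF.Pieces.isSquare_mul_inv_of_not h2₀ _ _ hs hlamns
    -- when is `c₁` inner
    have hc₁iff : ThetaP m emb G₁ ∈ Cfsg.Inn (Cfsg.POmega F ⇑(stdPlus F m)) ↔
        ¬ (Odd m ∧ Fintype.card F₀ % 4 = 1) := by
      have hval : (((Cfsg.Agent.Helper5.OMF.embGO' (isBC_stdPlus m emb) G₁ :
          ↥(GO (stdPlus F m))) : GL (Ip m) F) : Matrix (Ip m) (Ip m) F) =
          ((deltaPlus m (Units.map (emb : F₀ →* F) ν₀) : GL (Ip m) F) :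
            Matrix (Ip m) (Ip m) F) := by
        rw [ThetaP_val]
        exact deltaPlus_map m emb ν₀
      have hsimF : ∀ w, stdPlus F m
          ((((Cfsg.Agent.Helper5.OMF.embGO' (isBC_stdPlus m emb) G₁ : ↥(GO (stdPlus F m))) :
            GL (Ip m) F) : Matrix (Ip m) (Ip m) F) *ᵥ w) = emb lam * stdPlus F m w := by
        intro w
        rw [hval]
        exact deltaPlus_sim m (Units.map (emb : F₀ →* F) ν₀) w
      rw [ThetaP_apply, Cfsg.Agent.Helper43.GF.Pieces.PhiGO_mem_inn_iff_smul h2 hm hq4 hperf hcent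
        _ μ (emb lam) hel0 hμ hsimF, hval,
        delta_smul_mem_Omega_iff h2 (by omega) (Units.map (emb : F₀ →* F) ν₀) μ hμ,
        isSquare_pow_iff' μ hμ0 m, hμsq]
      constructor
      · rintro h ⟨h1, h3⟩
        exact h ⟨h1, by omega⟩
      · rintro h ⟨h1, h3⟩
        exact h ⟨h1, by omega⟩
    have hO4 := Cfsg.Agent.Helper43.GF.Pieces.splitCount_index_four (inD (stdPlus F m) C)
      (Cfsg.Inn (Cfsg.POmega F ⇑(stdPlus F m))) hKH hnorm hidx
      (fieldAutStd (⇑(stdPlus F m)) hQA σ) (ThetaP m emb G₁) hc₁ hgen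
    have hF₀' : Fintype.card F₀ = p ^ (f / 2) := hF₀
    rw [← hcount, ← hF₀']
    exact ⟨fun h => hO4.2 (fun hc => (hc₁iff.1 hc) h), fun h => hO4.1 (hc₁iff.2 h)⟩
  refine ⟨hrf, ?_, ?_, ?_, ?_⟩
  · -- the centralizer
    obtain ⟨e1⟩ := Cfsg.Agent.Helper5.OMF.equiv_inf_centralizer (MulAut.conj γ)
      (inD (stdPlus F m) C) (inD (stdPlus F m) C)
      (fun h => by rw [MulAut.conj_apply]; exact hDγ h) x
    have heq : inD (stdPlus F m) C ⊓ Subgroup.centralizer {(MulAut.conj γ) x} =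
        inD (stdPlus F m) C ⊓ Subgroup.centralizer {fieldAutStd (⇑(stdPlus F m)) hQA σ} := by
      rw [MulAut.conj_apply, hγx']
    obtain ⟨e3⟩ := cent_iso_plus (by omega : 3 ≤ m) emb σ hr0 hσr hι1 hι2 hQA hperf hcent hperf₀
      hcent₀ C C₀
    exact ⟨(e1.trans (MulEquiv.subgroupCongr heq)).trans e3⟩
  · -- count one
    intro hor
    rw [← hcount]
    by_cases hoddF : Odd (Fintype.card F)
    · have h2 : (2 : F) ≠ 0 := Cfsg.Agent.Helper5.OrthAut.two_ne_zero_of_odd_card hoddF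
      have hoddr : Odd r := by
        rcases hor with h | h
        · exact h
        · exfalso
          rw [hF, h] at hoddF
          have := (Nat.odd_pow_iff (by omega : f ≠ 0)).1 hoddF
          exact absurd this (by decide)
      have hQ0' : ∃ v : (Ip m) → F, stdPlus F m v ≠ 0 :=
        Cfsg.Agent.Helper23.GF.gfc_exists_ne_zero (F := F) (m := m) (by omega)
      have hKH : Cfsg.Inn (Cfsg.POmega F ⇑(stdPlus F m)) ≤ inD (stdPlus F m) C := by
        rw [← hinD, inndiag_eq_inD_plus m h2 hQ0']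
        exact inn_le_inD (stdPlus F m) hQ0' m
      apply Cfsg.Agent.Helper5.OMF.splitClassCount_eq_one _ _ hKH (fun h _ k hk => hInn h k hk)
      intro h hh
      rw [← hinD] at hh
      obtain ⟨t, c, ht, hc, hcomm, htc⟩ := Cfsg.Agent.Helper79.OPF.inndiag_eq_inn_mul_cent_odd_plus hoddF (by omega) emb σ
        hoddr hσr hι1 hι2 hQA h hh
      rw [hinD] at hc
      exact ⟨t, ht, c, hc, hcomm, htc⟩
    · have h2 := Cfsg.Agent.Helper5.OMF.two_eq_zero_of_not_odd hoddF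
      have hE1 := Cfsg.Agent.Helper43.GF.Pieces.inndiag_plus_eq_inn_char2 (F := F) h2
        (by omega : 3 ≤ m)
      rw [hinD] at hE1
      rw [hE1]
      exact Cfsg.Agent.Helper43.GF.splitClassCount_self _ _
  · rintro ⟨hr2, hp2, h⟩
    exact (key2 hr2 hp2).1 h
  · rintro ⟨hr2, hp2, h⟩
    exact (key2 hr2 hp2).2 h

end Main

end Cfsg.Agent.Helper40.OPF
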